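import Mathlib
import Cfsg.Agent.S2820
import Cfsg.Agent.S1900
import Cfsg.Agent.Lib.Helper9.Subnormal
import Cfsg.Agent.Lib.Helper9.Zipper

set_option autoImplicit false
open Cfsg

namespace Cfsg.Agent.Lib.Helper4

open Cfsg.Agent.S2820

section
variable {H : Type*} [Group H]

theorem h4_subn_of_le {B K K' : Subgroup H} (h : (B.subgroupOf K).IsSubnormal) (hle : K' ≤ K) :
    (B.subgroupOf K').IsSubnormal := by
  have := h.comap (Subgroup.inclusion hle)
  have e : (B.subgroupOf K).comap (Subgroup.inclusion hle) = B.subgroupOf K' := by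
    ext x
    rw [Subgroup.mem_comap, Subgroup.mem_subgroupOf, Subgroup.mem_subgroupOf]
    rfl
  rw [e] at this; exact this

theorem h4_opIn_idem (p : ℕ) (B : Subgroup H) : opIn p (opIn p B) = opIn p B := by
  apply le_antisymm (opIn_le p _)
  show Subgroup.closure _ ≤ _
  rw [Subgroup.closure_le]
  rintro x ⟨hx, hc⟩
  exact Subgroup.subset_closure ⟨Subgroup.subset_closure ⟨hx, hc⟩, hc⟩

theorem h4_opIn_conj_le (p : ℕ) (A R : Subgroup H) (b : H) (hb : b ∈ R) (hA : opIn p A ≤ R) :
    opIn p (A.map (MulAut.conj b).toMonoidHom) ≤ R := by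
  show Subgroup.closure _ ≤ _
  rw [Subgroup.closure_le]
  rintro y ⟨⟨a, ha, rfl⟩, hc⟩
  have hc' : (orderOf (b * a * b⁻¹)).Coprime p := hc
  have h1 : orderOf (b * a * b⁻¹) = orderOf a := (MulAut.conj b).orderOf_eq a
  have h2 : a ∈ opIn p A := Subgroup.subset_closure ⟨ha, by rw [← h1]; exact hc'⟩
  exact R.mul_mem (R.mul_mem hb (hA h2)) (R.inv_mem hb)

theorem h4_subn_conj {A J : Subgroup H} (h : (A.subgroupOf J).IsSubnormal) {b : H} (hb : b ∈ J) :
    ((A.map (MulAut.conj b).toMonoidHom).subgroupOf J).IsSubnormal := by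
  have h1 := h.map (f := (MulAut.conj (⟨b, hb⟩ : ↥J)).toMonoidHom)
    (MulAut.conj (⟨b, hb⟩ : ↥J)).surjective
  have e : (A.subgroupOf J).map (MulAut.conj (⟨b, hb⟩ : ↥J)).toMonoidHom =
      (A.map (MulAut.conj b).toMonoidHom).subgroupOf J := by
    ext x
    constructor
    · rintro ⟨y, hy, rfl⟩
      rw [Subgroup.mem_subgroupOf]
      exact ⟨(y : H), Subgroup.mem_subgroupOf.mp hy, rfl⟩
    · intro hx
      rw [Subgroup.mem_subgroupOf] at hx
      obtain ⟨a, ha, hax⟩ := hx
      have hax' : b * a * b⁻¹ = (x : H) := hax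
      have haJ : a ∈ J := by
        have : a = b⁻¹ * (x : H) * b := by rw [← hax']; group
        rw [this]; exact J.mul_mem (J.mul_mem (J.inv_mem hb) x.2) hb
      exact ⟨⟨a, haJ⟩, Subgroup.mem_subgroupOf.mpr ha, Subtype.ext hax'⟩
  rw [e] at h1; exact h1

theorem h4_subn_sup [Finite H] {X Y K : Subgroup H} (hX : (X.subgroupOf K).IsSubnormal)
    (hY : (Y.subgroupOf K).IsSubnormal) (hXK : X ≤ K) (hYK : Y ≤ K) :
    ((X ⊔ Y).subgroupOf K).IsSubnormal := by
  rw [Subgroup.subgroupOf_sup hXK hYK]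
  exact Cfsg.Agent.Lib.Helper9.isSubnormal_sup _ _ hX hY

theorem h4_opIn_subnormal (p : ℕ) {A : Subgroup H} (hA : A.IsSubnormal) :
    (opIn p A).IsSubnormal := by
  haveI : ((opIn p A).subgroupOf A).Normal :=
    (Subgroup.normal_subgroupOf_iff_le_normalizer (opIn_le p A)).mpr
      (Subgroup.le_normalizer.trans (normalizer_le_normalizer_opIn p A))
  exact Subgroup.IsSubnormal.trans (opIn_le p A) (Subgroup.Normal.isSubnormal inferInstance) hA

theorem h4_subn_opIn (p : ℕ) {B J : Subgroup H} (hB : (B.subgroupOf J).IsSubnormal) :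
    ((opIn p B).subgroupOf J).IsSubnormal := by
  have hle : (opIn p B).subgroupOf J ≤ B.subgroupOf J := by
    intro x hx
    exact Subgroup.mem_subgroupOf.mpr (opIn_le p B (Subgroup.mem_subgroupOf.mp hx))
  refine Subgroup.IsSubnormal.trans hle (Subgroup.Normal.isSubnormal ?_) hB
  constructor
  intro n hn g
  rw [Subgroup.mem_subgroupOf, Subgroup.mem_subgroupOf] at hn ⊢
  have hg : ((g : ↥J) : H) ∈ B := Subgroup.mem_subgroupOf.mp g.2
  have h1 := (Subgroup.le_normalizer.trans (normalizer_le_normalizer_opIn p B)) hg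
  exact (Subgroup.mem_normalizer_iff.mp h1 _).mp hn

theorem h4_le_sylow_of_subnormal [Finite H] {p : ℕ} [Fact p.Prime] (A : Subgroup H)
    (hA : A.IsSubnormal) (hAp : IsPGroup p ↥A) (S' : Sylow p H) : A ≤ (S' : Subgroup H) := by
  obtain ⟨Q', hQ'⟩ := Cfsg.Agent.S0542.result p A hA S'
  have h2 : (⊤ : Subgroup ↥A) = (Q' : Subgroup ↥A) :=
    Q'.is_maximal' (hAp.to_subgroup ⊤) le_top
  intro a ha
  have h3 : (⟨a, ha⟩ : ↥A) ∈ (Q' : Subgroup ↥A) := by rw [← h2]; trivial
  rw [hQ', Subgroup.mem_subgroupOf] at h3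
  exact h3

/-- if `N = X ⊔ Y` with `X`, `Y` subnormal in `N` and of `p`-power exponent modulo the normal
subgroup `R` of `N`, then `O^p(N) ≤ R` -/
theorem h4_opIn_le_of_quot [Finite H] {p : ℕ} [Fact p.Prime] (N R X Y : Subgroup H)
    (hRN : R ≤ N) (hNR : N ≤ Subgroup.normalizer (R : Set H))
    (hXN : X ≤ N) (hYN : Y ≤ N) (hN : N ≤ X ⊔ Y)
    (hXsn : (X.subgroupOf N).IsSubnormal) (hYsn : (Y.subgroupOf N).IsSubnormal)
    (hX : ∀ x ∈ X, ∃ k : ℕ, x ^ p ^ k ∈ R) (hY : ∀ y ∈ Y, ∃ k : ℕ, y ^ p ^ k ∈ R) :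
    opIn p N ≤ R := by
  haveI hRn : (R.subgroupOf N).Normal :=
    (Subgroup.normal_subgroupOf_iff_le_normalizer hRN).mpr hNR
  obtain ⟨f, hf⟩ : ∃ f : ↥N →* ↥N ⧸ R.subgroupOf N, f = QuotientGroup.mk' (R.subgroupOf N) :=
    ⟨_, rfl⟩
  have hfs : Function.Surjective f := by rw [hf]; exact QuotientGroup.mk'_surjective _
  have hXs : ((X.subgroupOf N).map f).IsSubnormal := hXsn.map hfs
  have hYs : ((Y.subgroupOf N).map f).IsSubnormal := hYsn.map hfs
  have hXp : IsPGroup p ↥((X.subgroupOf N).map f) := by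
    rintro ⟨_, x, hx, rfl⟩
    obtain ⟨k, hk⟩ := hX x (Subgroup.mem_subgroupOf.mp hx)
    refine ⟨k, Subtype.ext ?_⟩
    show (f x) ^ p ^ k = 1
    rw [← map_pow, hf]
    exact (QuotientGroup.eq_one_iff _).mpr (Subgroup.mem_subgroupOf.mpr hk)
  have hYp : IsPGroup p ↥((Y.subgroupOf N).map f) := by
    rintro ⟨_, x, hx, rfl⟩
    obtain ⟨k, hk⟩ := hY x (Subgroup.mem_subgroupOf.mp hx)
    refine ⟨k, Subtype.ext ?_⟩
    show (f x) ^ p ^ k = 1
    rw [← map_pow, hf]
    exact (QuotientGroup.eq_one_iff _).mpr (Subgroup.mem_subgroupOf.mpr hk)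
  obtain ⟨S⟩ : Nonempty (Sylow p (↥N ⧸ R.subgroupOf N)) := inferInstance
  have h1 := h4_le_sylow_of_subnormal _ hXs hXp S
  have h2 := h4_le_sylow_of_subnormal _ hYs hYp S
  have htop : (⊤ : Subgroup (↥N ⧸ R.subgroupOf N)) ≤ (S : Subgroup (↥N ⧸ R.subgroupOf N)) := by
    have h3 : (X.subgroupOf N ⊔ Y.subgroupOf N).map f ≤ (S : Subgroup (↥N ⧸ R.subgroupOf N)) := by
      rw [Subgroup.map_sup]; exact sup_le h1 h2
    have e : X.subgroupOf N ⊔ Y.subgroupOf N = ⊤ := by
      rw [← Subgroup.subgroupOf_sup hXN hYN, eq_top_iff]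
      intro x _
      exact Subgroup.mem_subgroupOf.mpr (hN x.2)
    rw [e, Subgroup.map_top_of_surjective f hfs] at h3
    exact h3
  have hQ : IsPGroup p (↥N ⧸ R.subgroupOf N) := by
    intro q
    obtain ⟨k, hk⟩ := S.isPGroup' ⟨q, htop (Subgroup.mem_top q)⟩
    exact ⟨k, congrArg Subtype.val hk⟩
  show Subgroup.closure _ ≤ _
  rw [Subgroup.closure_le]
  rintro y ⟨hyN, hyc⟩
  have h1 : (⟨y, hyN⟩ : ↥N) ∈ pResidual p ↥N := by
    apply Cfsg.Agent.Lib.Helper2.mem_pResidual_of_coprime
    rw [Subgroup.orderOf_mk]; exact hyc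
  have h2 := Cfsg.Agent.Lib.Helper2.pResidual_le_ker f hQ h1
  rw [hf, QuotientGroup.ker_mk'] at h2
  exact Subgroup.mem_subgroupOf.mp h2

/-- a normal subgroup `P` of `K` with `P/C` a `p`-group (`C` normal in `K`) normalizes
`O^p(B) C` for every subnormal subgroup `B` of `K` -/
theorem h4_gma [Finite H] {p : ℕ} [Fact p.Prime] : ∀ n : ℕ, ∀ K B P C : Subgroup H,
    Nat.card K = n → B ≤ K → (B.subgroupOf K).IsSubnormal → P ≤ K →
    K ≤ Subgroup.normalizer (P : Set H) → C ≤ P → K ≤ Subgroup.normalizer (C : Set H) →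
    (∀ x ∈ P, ∃ k : ℕ, x ^ p ^ k ∈ C) →
    P ≤ Subgroup.normalizer ((opIn p B ⊔ C : Subgroup H) : Set H) := by
  intro n
  induction n using Nat.strong_induction_on with
  | _ n ih =>
  intro K B P C hn hBK hBsn hPK hKP hCP hKC hPC
  have hsupn : ∀ X Y : Subgroup H, Subgroup.normalizer (X : Set H) ⊓
      Subgroup.normalizer (Y : Set H) ≤ Subgroup.normalizer ((X ⊔ Y : Subgroup H) : Set H) :=
    fun X Y => Cfsg.Agent.Lib.Helper9.normalizer_inf_le_normalizer_sup X Y
  by_cases hcase : B ⊔ P = K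
  · by_cases hBK' : B = K
    · have h1 : P ≤ Subgroup.normalizer (opIn p B : Set H) := by
        rw [← hBK'] at hPK
        exact hPK.trans (Subgroup.le_normalizer.trans (normalizer_le_normalizer_opIn p B))
      exact (le_inf h1 (hPK.trans hKC)).trans (hsupn _ _)
    · have hne : B.subgroupOf K ≠ ⊤ := by
        intro h
        apply hBK'
        apply le_antisymm hBK
        intro k hk
        have : (⟨k, hk⟩ : ↥K) ∈ B.subgroupOf K := by rw [h]; trivial
        exact Subgroup.mem_subgroupOf.mp this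
      obtain ⟨N₀, hN₀n, hBN₀, hN₀lt⟩ := hBsn.exists_normal_and_le_and_lt_top_of_ne hne
      obtain ⟨N, hN⟩ : ∃ N : Subgroup H, N = N₀.map K.subtype := ⟨_, rfl⟩
      have hNK : N ≤ K := by rw [hN]; exact Subgroup.map_subtype_le _
      have hBN : B ≤ N := by
        intro b hb
        rw [hN]
        exact ⟨⟨b, hBK hb⟩, hBN₀ (Subgroup.mem_subgroupOf.mpr hb), rfl⟩
      have hNne : N ≠ K := by
        intro h
        apply hN₀lt.ne
        rw [eq_top_iff]
        intro k _
        have hk : (k : H) ∈ N := by rw [h]; exact k.2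
        rw [hN] at hk
        obtain ⟨k', hk', hkk⟩ := hk
        have : k' = k := Subtype.ext hkk
        rw [← this]; exact hk'
      have hKN : K ≤ Subgroup.normalizer (N : Set H) := by
        rw [Subgroup.le_normalizer_iff]
        intro k hk x hx
        rw [hN] at hx ⊢
        obtain ⟨x', hx', rfl⟩ := hx
        exact ⟨⟨k, hk⟩ * x' * ⟨k, hk⟩⁻¹, hN₀n.conj_mem x' hx' ⟨k, hk⟩, rfl⟩
      have hcard : Nat.card N < n := by
        rw [← hn]
        exact card_lt (lt_of_le_of_ne hNK hNne)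
      have hBsnN : (B.subgroupOf N).IsSubnormal := h4_subn_of_le hBsn hNK
      have hNinf : ∀ X : Subgroup H, K ≤ Subgroup.normalizer (X : Set H) →
          N ≤ Subgroup.normalizer ((X ⊓ N : Subgroup H) : Set H) := by
        intro X hKX
        rw [Subgroup.le_normalizer_iff]
        intro x hx y hy
        rw [Subgroup.mem_inf] at hy ⊢
        exact ⟨(Subgroup.le_normalizer_iff.mp hKX) x (hNK hx) y hy.1,
          N.mul_mem (N.mul_mem hx hy.2) (N.inv_mem hx)⟩
      have hNP := hNinf P hKP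
      have hNC := hNinf C hKC
      have hPC' : ∀ x ∈ P ⊓ N, ∃ k : ℕ, x ^ p ^ k ∈ C ⊓ N := by
        intro x hx
        obtain ⟨k, hk⟩ := hPC x hx.1
        exact ⟨k, Subgroup.mem_inf.mpr ⟨hk, N.pow_mem hx.2 _⟩⟩
      have hih := ih (Nat.card N) hcard N B (P ⊓ N) (C ⊓ N) rfl hBN hBsnN inf_le_right hNP
        (inf_le_inf_right N hCP) hNC hPC'
      obtain ⟨R', hR'⟩ : ∃ R' : Subgroup H, R' = opIn p B ⊔ (C ⊓ N) := ⟨_, rfl⟩
      rw [← hR'] at hih
      have hBR' : B ≤ Subgroup.normalizer (R' : Set H) := by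
        rw [hR']
        exact (le_inf (Subgroup.le_normalizer.trans (normalizer_le_normalizer_opIn p B))
          (hBN.trans hNC)).trans (hsupn _ _)
      have hdecomp : ∀ x ∈ N, ∃ y ∈ P ⊓ N, ∃ b ∈ B, x = y * b := by
        intro x hx
        have hxK : x ∈ P ⊔ B := by rw [sup_comm, hcase]; exact hNK hx
        obtain ⟨y, hy, b, hb, rfl⟩ := Cfsg.Agent.Lib.Helper7.exists_mul_of_mem_sup
          (N := P) (A := B) (hBK.trans hKP) hxK
        have hyN : y ∈ N := by
          have : y = y * b * b⁻¹ := by group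
          rw [this]; exact N.mul_mem hx (N.inv_mem (hBN hb))
        exact ⟨y, Subgroup.mem_inf.mpr ⟨hy, hyN⟩, b, hb, rfl⟩
      have hNR : N ≤ Subgroup.normalizer (R' : Set H) := by
        intro x hx
        obtain ⟨y, hy, b, hb, rfl⟩ := hdecomp x hx
        exact Subgroup.mul_mem _ (hih hy) (hBR' hb)
      have hRN : R' ≤ N := by
        rw [hR']; exact sup_le ((opIn_le p B).trans hBN) inf_le_right
      have hle : opIn p N ≤ R' := by
        apply h4_opIn_le_of_quot N R' B (P ⊓ N) hRN hNR hBN inf_le_right ?_ hBsnN ?_ ?_ ?_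
        · intro x hx
          obtain ⟨y, hy, b, hb, rfl⟩ := hdecomp x hx
          exact Subgroup.mul_mem _ (Subgroup.mem_sup_right hy) (Subgroup.mem_sup_left hb)
        · haveI : ((P ⊓ N : Subgroup H).subgroupOf N).Normal :=
            (Subgroup.normal_subgroupOf_iff_le_normalizer inf_le_right).mpr hNP
          exact Subgroup.Normal.isSubnormal inferInstance
        · intro b hb
          obtain ⟨k, hk⟩ := pow_mem_opIn p B hb
          exact ⟨k, by rw [hR']; exact Subgroup.mem_sup_left hk⟩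
        · intro y hy
          obtain ⟨k, hk⟩ := hPC' y hy
          exact ⟨k, by rw [hR']; exact Subgroup.mem_sup_right hk⟩
      have heq : opIn p N ⊔ C = opIn p B ⊔ C := by
        apply le_antisymm
        · refine sup_le (hle.trans ?_) le_sup_right
          rw [hR']; exact sup_le le_sup_left (inf_le_left.trans le_sup_right)
        · exact sup_le_sup_right (opIn_mono p hBN) C
      rw [← heq]
      exact hPK.trans ((le_inf (hKN.trans (normalizer_le_normalizer_opIn p N)) hKC).trans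
        (hsupn _ _))
  · have hlt : B ⊔ P < K := lt_of_le_of_ne (sup_le hBK hPK) hcase
    have hcard : Nat.card ↥(B ⊔ P) < n := by rw [← hn]; exact card_lt hlt
    exact ih _ hcard (B ⊔ P) B P C rfl le_sup_left (h4_subn_of_le hBsn hlt.le) le_sup_right
      (hlt.le.trans hKP) hCP (hlt.le.trans hKC) hPC

/-- Wielandt: `O^p` of the join of two subnormal subgroups is the join of their `O^p`s
(relative form: `A`, `B` subnormal in `J = A ⊔ B`). -/
theorem h4_oj_aux [Finite H] {p : ℕ} [Fact p.Prime] : ∀ n : ℕ, ∀ J A B : Subgroup H,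
    Nat.card J = n → A ⊔ B = J → (A.subgroupOf J).IsSubnormal → (B.subgroupOf J).IsSubnormal →
    opIn p J ≤ opIn p A ⊔ opIn p B := by
  intro n
  induction n using Nat.strong_induction_on with
  | _ n ih =>
  have half : ∀ J A B : Subgroup H, Nat.card J = n → A ⊔ B = J → (A.subgroupOf J).IsSubnormal →
      (B.subgroupOf J).IsSubnormal →
      A ≤ Subgroup.normalizer ((opIn p A ⊔ opIn p B : Subgroup H) : Set H) := by
    intro J A B hn hJ hA hB
    have hAJ : A ≤ J := by rw [← hJ]; exact le_sup_left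
    have hBJ : B ≤ J := by rw [← hJ]; exact le_sup_right
    by_cases hAtop : A = J
    · have h1 : opIn p B ≤ opIn p A := opIn_mono p (by rw [hAtop]; exact hBJ)
      rw [sup_eq_left.mpr h1]
      exact Subgroup.le_normalizer.trans (normalizer_le_normalizer_opIn p A)
    · obtain ⟨B₀, hB₀⟩ : ∃ B₀ : Subgroup H, B₀ = opIn p B := ⟨_, rfl⟩
      obtain ⟨R, hR⟩ : ∃ R : Subgroup H, R = opIn p A ⊔ opIn p B := ⟨_, rfl⟩
      rw [← hR]
      have hB₀J : B₀ ≤ J := by rw [hB₀]; exact (opIn_le p B).trans hBJ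
      have hB₀sn : (B₀.subgroupOf J).IsSubnormal := by rw [hB₀]; exact h4_subn_opIn p hB
      have hB₀R : B₀ ≤ R := by rw [hB₀, hR]; exact le_sup_right
      have hA₀R : opIn p A ≤ R := by rw [hR]; exact le_sup_left
      have hB₀idem : opIn p B₀ = B₀ := by rw [hB₀]; exact h4_opIn_idem p B
      by_cases hJ' : A ⊔ B₀ = J
      · obtain ⟨F, hF⟩ : ∃ F : ↥B₀ → Subgroup H,
            F = fun b : ↥B₀ => A.map (MulAut.conj (b : H)).toMonoidHom := ⟨_, rfl⟩
        obtain ⟨T, hT⟩ : ∃ T : Set (Subgroup H), T = Set.range F := ⟨_, rfl⟩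
        obtain ⟨A₁, hA₁⟩ : ∃ A₁ : Subgroup H, A₁ = ⨆ b : ↥B₀, F b := ⟨_, rfl⟩
        have hA₁' : A₁ = sSup T := by rw [hA₁, hT, sSup_range]
        have hFle : ∀ b : ↥B₀, F b ≤ A₁ := fun b => by rw [hA₁]; exact le_iSup F b
        have hAA₁ : A ≤ A₁ := by
          refine le_trans ?_ (hFle 1)
          intro a ha
          rw [hF]
          exact ⟨a, ha, by simp⟩
        have hTJ : ∀ X ∈ T, X ≤ J ∧ (X.subgroupOf J).IsSubnormal ∧ opIn p X ≤ R := by
          rw [hT]
          rintro _ ⟨b, rfl⟩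
          rw [hF]
          refine ⟨?_, h4_subn_conj hA (hB₀J b.2), h4_opIn_conj_le p A R b (hB₀R b.2) hA₀R⟩
          rintro _ ⟨a, ha, rfl⟩
          exact J.mul_mem (J.mul_mem (hB₀J b.2) (hAJ ha)) (J.inv_mem (hB₀J b.2))
        have hA₁J : A₁ ≤ J := by rw [hA₁']; exact sSup_le (fun X hX => (hTJ X hX).1)
        have hJA₁ : J ≤ Subgroup.normalizer (A₁ : Set H) := by
          rw [← hJ']
          apply sup_le (hAA₁.trans Subgroup.le_normalizer)
          intro c hc
          apply Cfsg.Agent.S1900.mem_normalizer_of_conj_mem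
          have hmap : A₁.map (MulAut.conj c).toMonoidHom ≤ A₁ := by
            rw [hA₁, Subgroup.map_iSup]
            apply iSup_le
            intro b
            rw [hF]
            rintro _ ⟨_, ⟨a, ha, rfl⟩, rfl⟩
            refine Subgroup.mem_iSup_of_mem ⟨c * (b : H), B₀.mul_mem hc b.2⟩ ⟨a, ha, ?_⟩
            show c * (b : H) * a * (c * (b : H))⁻¹ = c * ((b : H) * a * (b : H)⁻¹) * c⁻¹
            group
          intro y hy
          exact hmap ⟨y, hy, rfl⟩
        have hA₁ne : A₁ ≠ J := by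
          intro hcon
          have hne : A.subgroupOf J ≠ ⊤ := by
            intro h
            apply hAtop
            apply le_antisymm hAJ
            intro k hk
            have : (⟨k, hk⟩ : ↥J) ∈ A.subgroupOf J := by rw [h]; trivial
            exact Subgroup.mem_subgroupOf.mp this
          obtain ⟨N₀, hN₀n, hAN₀, hN₀lt⟩ := hA.exists_normal_and_le_and_lt_top_of_ne hne
          have hle : A₁ ≤ N₀.map J.subtype := by
            rw [hA₁]
            apply iSup_le
            intro b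
            rw [hF]
            rintro _ ⟨a, ha, rfl⟩
            exact ⟨⟨(b : H), hB₀J b.2⟩ * ⟨a, hAJ ha⟩ * ⟨(b : H), hB₀J b.2⟩⁻¹,
              hN₀n.conj_mem _ (hAN₀ (Subgroup.mem_subgroupOf.mpr ha)) _, rfl⟩
          apply hN₀lt.ne
          rw [eq_top_iff]
          intro k _
          have hk : (k : H) ∈ N₀.map J.subtype := hle (by rw [hcon]; exact k.2)
          obtain ⟨k', hk', hkk⟩ := hk
          have : k' = k := Subtype.ext hkk
          rw [← this]; exact hk'
        have hcard : Nat.card A₁ < n := by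
          rw [← hn]; exact card_lt (lt_of_le_of_ne hA₁J hA₁ne)
        have multi : ∀ T' : Set (Subgroup H), T'.Finite → (∀ X ∈ T', X ∈ T) →
            (sSup T' ≤ A₁ ∧ ((sSup T').subgroupOf J).IsSubnormal ∧ opIn p (sSup T') ≤ R) := by
          intro T' hfin
          refine Set.Finite.induction_on (motive := fun (T' : Set (Subgroup H)) _ =>
            (∀ X ∈ T', X ∈ T) →
            (sSup T' ≤ A₁ ∧ ((sSup T').subgroupOf J).IsSubnormal ∧ opIn p (sSup T') ≤ R))
            T' hfin ?_ ?_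
          · intro _
            rw [sSup_empty]
            refine ⟨bot_le, ?_, (opIn_le p ⊥).trans bot_le⟩
            rw [Subgroup.bot_subgroupOf]; exact Subgroup.IsSubnormal.bot
          · intro X T'' _ _ ih' h
            obtain ⟨hY1, hY2, hY3⟩ := ih' (fun U hU => h U (Set.mem_insert_of_mem _ hU))
            have hXT := h X (Set.mem_insert _ _)
            obtain ⟨hX1, hX2, hX3⟩ := hTJ X hXT
            have hXA₁ : X ≤ A₁ := by rw [hA₁']; exact le_sSup hXT
            rw [sSup_insert]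
            have hle : X ⊔ sSup T'' ≤ A₁ := sup_le hXA₁ hY1
            refine ⟨hle, h4_subn_sup hX2 hY2 hX1 (hY1.trans hA₁J), ?_⟩
            have hc : Nat.card ↥(X ⊔ sSup T'') < n :=
              lt_of_le_of_lt (Subgroup.card_le_of_le hle) hcard
            exact (ih _ hc (X ⊔ sSup T'') X (sSup T'') rfl rfl
              (h4_subn_of_le hX2 (hle.trans hA₁J))
              (h4_subn_of_le hY2 (hle.trans hA₁J))).trans (sup_le hX3 hY3)
        have hC : opIn p A₁ ≤ R := by
          rw [hA₁']; exact (multi T (Set.toFinite T) (fun X hX => hX)).2.2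
        have hg := h4_gma (p := p) (Nat.card J) J B₀ A₁ (opIn p A₁) rfl hB₀J hB₀sn hA₁J hJA₁
          (opIn_le p A₁) (hJA₁.trans (normalizer_le_normalizer_opIn p A₁))
          (fun x hx => pow_mem_opIn p A₁ hx)
        rw [hB₀idem] at hg
        have e : B₀ ⊔ opIn p A₁ = R := by
          apply le_antisymm (sup_le hB₀R hC)
          rw [hR]
          exact sup_le ((opIn_mono p hAA₁).trans le_sup_right) (by rw [← hB₀]; exact le_sup_left)
        rw [e] at hg
        exact hAA₁.trans hg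
      · have hle : A ⊔ B₀ ≤ J := sup_le hAJ hB₀J
        have hlt : A ⊔ B₀ < J := lt_of_le_of_ne hle hJ'
        have hcard : Nat.card ↥(A ⊔ B₀) < n := by rw [← hn]; exact card_lt hlt
        have h1 := ih _ hcard (A ⊔ B₀) A B₀ rfl rfl (h4_subn_of_le hA hle)
          (h4_subn_of_le hB₀sn hle)
        rw [hB₀idem] at h1
        have h2 : opIn p (A ⊔ B₀) = R := by
          apply le_antisymm
          · rw [hR, ← hB₀]; exact h1
          · rw [hR]
            apply sup_le (opIn_mono p le_sup_left)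
            have h3 : opIn p B₀ ≤ opIn p (A ⊔ B₀) := opIn_mono p le_sup_right
            rw [hB₀idem] at h3
            rw [← hB₀]; exact h3
        rw [← h2]
        exact le_sup_left.trans (Subgroup.le_normalizer.trans
          (normalizer_le_normalizer_opIn p _))
  intro J A B hn hJ hA hB
  have hAJ : A ≤ J := by rw [← hJ]; exact le_sup_left
  have hBJ : B ≤ J := by rw [← hJ]; exact le_sup_right
  have h1 := half J A B hn hJ hA hB
  have h2 := half J B A hn (by rw [sup_comm]; exact hJ) hB hA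
  rw [sup_comm (opIn p B)] at h2
  have hJR : J ≤ Subgroup.normalizer ((opIn p A ⊔ opIn p B : Subgroup H) : Set H) := by
    rw [← hJ]; exact sup_le h1 h2
  exact h4_opIn_le_of_quot J _ A B (sup_le ((opIn_le p A).trans hAJ) ((opIn_le p B).trans hBJ))
    hJR hAJ hBJ (le_of_eq hJ.symm) hA hB
    (fun x hx => by obtain ⟨k, hk⟩ := pow_mem_opIn p A hx; exact ⟨k, Subgroup.mem_sup_left hk⟩)
    (fun x hx => by obtain ⟨k, hk⟩ := pow_mem_opIn p B hx; exact ⟨k, Subgroup.mem_sup_right hk⟩)

end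

end Cfsg.Agent.Lib.Helper4
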