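import Mathlib
import Cfsg.Agent.Lib.Helper2.PGroup
import Cfsg.Agent.S1900

set_option autoImplicit false
open scoped commutatorElement

namespace Cfsg.Agent.Lib.Helper4

/-- a `p`-subgroup of `S_n`, `n < p²`, is abelian -/
theorem h4_perm_pgroup_comm (n p : ℕ) [Fact p.Prime] (hn : n < p ^ 2)
    (P : Subgroup (Equiv.Perm (Fin n))) (hP : IsPGroup p P) (a b : Equiv.Perm (Fin n))
    (ha : a ∈ P) (hb : b ∈ P) : a * b = b * a := by
  have hp := (Fact.out : p.Prime)
  have key : ∀ x : Fin n, commutator ↥P ≤ MulAction.stabilizer ↥P x := by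
    intro x
    obtain ⟨k, hk⟩ := hP.index (MulAction.stabilizer ↥P x)
    have h1 : (MulAction.stabilizer ↥P x).index ≤ n := by
      rw [MulAction.index_stabilizer]
      calc (MulAction.orbit ↥P x).ncard ≤ Nat.card (Fin n) := Set.ncard_le_card _
        _ = n := by simp
    have hk1 : k ≤ 1 := by
      by_contra hk2
      have h2 : p ^ 2 ≤ p ^ k := Nat.pow_le_pow_right hp.pos (by omega)
      omega
    interval_cases k
    · rw [pow_zero, Subgroup.index_eq_one] at hk
      rw [hk]; exact le_top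
    · rw [pow_one] at hk
      have hco : IsCoatom (MulAction.stabilizer ↥P x) := by
        constructor
        · intro h
          rw [h, Subgroup.index_top] at hk
          exact hp.one_lt.ne hk
        · intro K hK
          have h3 := Subgroup.relIndex_mul_index hK.le
          rw [hk] at h3
          have h4 : K.index ∣ p := Dvd.intro_left _ h3
          rcases (Nat.dvd_prime hp).1 h4 with h5 | h5
          · exact Subgroup.index_eq_one.1 h5
          · exfalso
            rw [h5] at h3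
            have h6 : (MulAction.stabilizer ↥P x).relIndex K = 1 :=
              Nat.eq_of_mul_eq_mul_right hp.pos (by rw [h3, one_mul])
            have h7 : K ≤ MulAction.stabilizer ↥P x := Subgroup.relIndex_eq_one.1 h6
            exact lt_irrefl _ (lt_of_lt_of_le hK h7)
      exact Cfsg.Agent.Lib.Helper2.commutator_le_coatom_of_pGroup hP _ hco
  ext x
  have h1 : ⁅(⟨a, ha⟩ : ↥P), ⟨b, hb⟩⁆ ∈ commutator ↥P :=
    Subgroup.commutator_mem_commutator (Subgroup.mem_top _) (Subgroup.mem_top _)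
  have h2 := key (b (a x)) h1
  rw [MulAction.mem_stabilizer_iff] at h2
  have h3 : a (b (a⁻¹ (b⁻¹ (b (a x))))) = b (a x) := h2
  have e1 : b⁻¹ (b (a x)) = a x := by rw [← Equiv.Perm.mul_apply, inv_mul_cancel]; rfl
  have e2 : a⁻¹ (a x) = x := by rw [← Equiv.Perm.mul_apply, inv_mul_cancel]; rfl
  rw [e1, e2] at h3
  show ((a (b x) : Fin n) : ℕ) = ((b (a x) : Fin n) : ℕ)
  rw [h3]

theorem h4_isPGroup_zpowers {G : Type*} [Group G] (p : ℕ) (g : G) (k : ℕ)
    (h : g ^ (p ^ k) = 1) : IsPGroup p (Subgroup.zpowers g) := by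
  rintro ⟨y, m, rfl⟩
  refine ⟨k, ?_⟩
  apply Subtype.ext
  show (g ^ m) ^ (p ^ k) = 1
  rw [← zpow_natCast, ← zpow_mul, mul_comm, zpow_mul, zpow_natCast, h, one_zpow]

theorem h4_sign_of_pow {α : Type*} [Fintype α] [DecidableEq α] (p : ℕ) [Fact p.Prime]
    (hp2 : p ≠ 2) (σ : Equiv.Perm α) (k : ℕ) (h : σ ^ (p ^ k) = 1) :
    Equiv.Perm.sign σ = 1 := by
  have h1 : Equiv.Perm.sign σ ^ (p ^ k) = 1 := by rw [← map_pow, h, map_one]
  rcases Int.units_eq_one_or (Equiv.Perm.sign σ) with h2 | h2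
  · exact h2
  · exfalso
    rw [h2] at h1
    have hodd : Odd (p ^ k) := ((Fact.out : p.Prime).odd_of_ne_two hp2).pow
    rw [Odd.neg_one_pow hodd] at h1
    exact absurd h1 (by decide)

/-- transport a non-abelian even `p`-subgroup of `Perm α` into `A_n` along an embedding -/
theorem h4_transport {α : Type*} [Fintype α] [DecidableEq α] (n p : ℕ) [Fact p.Prime] (ι : α ↪ Fin n)
    (Q₀ : Subgroup (Equiv.Perm α)) (hQ : IsPGroup p Q₀)
    (hsign : ∀ σ ∈ Q₀, Equiv.Perm.sign σ = 1)
    (a b : Equiv.Perm α) (ha : a ∈ Q₀) (hb : b ∈ Q₀) (hab : a * b ≠ b * a) :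
    ∃ Q : Subgroup (alternatingGroup (Fin n)), IsPGroup p Q ∧
      ∃ x ∈ Q, ∃ y ∈ Q, x * y ≠ y * x := by
  have hinj : Function.Injective (Equiv.Perm.viaEmbeddingHom ι) :=
    Equiv.Perm.viaEmbeddingHom_injective ι
  have heven : ∀ σ ∈ Q₀, Equiv.Perm.viaEmbeddingHom ι σ ∈ alternatingGroup (Fin n) := by
    intro σ hσ
    rw [Equiv.Perm.mem_alternatingGroup]
    have h1 : Equiv.Perm.sign (Equiv.Perm.viaEmbeddingHom ι σ) = Equiv.Perm.sign σ := by
      rw [Equiv.Perm.viaEmbeddingHom_apply, Equiv.Perm.viaEmbedding]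
      exact @Equiv.Perm.sign_extendDomain _ _ _ _ _ _ σ _ (fun a => Classical.propDecidable _) _
    rw [h1]; exact hsign σ hσ
  refine ⟨(Q₀.map (Equiv.Perm.viaEmbeddingHom ι)).subgroupOf (alternatingGroup (Fin n)), ?_,
    ⟨Equiv.Perm.viaEmbeddingHom ι a, heven a ha⟩, ?_,
    ⟨Equiv.Perm.viaEmbeddingHom ι b, heven b hb⟩, ?_, ?_⟩
  · exact (hQ.map (Equiv.Perm.viaEmbeddingHom ι)).comap_subtype
  · rw [Subgroup.mem_subgroupOf]; exact ⟨a, ha, rfl⟩
  · rw [Subgroup.mem_subgroupOf]; exact ⟨b, hb, rfl⟩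
  · intro h
    apply hab
    apply hinj
    rw [map_mul, map_mul]
    exact congrArg Subtype.val h

section wreath
variable (p : ℕ) [Fact p.Prime]

/-- shear permutation of `ZMod p × ZMod p` -/
def h4shear (c : ZMod p → ZMod p) : Equiv.Perm (ZMod p × ZMod p) where
  toFun x := (x.1, x.2 + c x.1)
  invFun x := (x.1, x.2 - c x.1)
  left_inv x := by simp
  right_inv x := by simp

theorem h4shear_mul (c d : ZMod p → ZMod p) :
    h4shear p c * h4shear p d = h4shear p (c + d) := by
  refine Equiv.ext fun x => ?_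
  show (x.1, x.2 + d x.1 + c x.1) = (x.1, x.2 + (c x.1 + d x.1))
  rw [add_assoc, add_comm (d x.1)]

theorem h4shear_zero : h4shear p 0 = 1 := by
  refine Equiv.ext fun x => ?_
  show (x.1, x.2 + 0) = x
  rw [add_zero]

/-- the base group as the range of a homomorphism -/
def h4shearHom : Multiplicative (ZMod p → ZMod p) →* Equiv.Perm (ZMod p × ZMod p) where
  toFun c := h4shear p (Multiplicative.toAdd c)
  map_one' := h4shear_zero p
  map_mul' c d := (h4shear_mul p _ _).symm

/-- block shift -/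
def h4shift : Equiv.Perm (ZMod p × ZMod p) where
  toFun x := (x.1 + 1, x.2)
  invFun x := (x.1 - 1, x.2)
  left_inv x := by simp
  right_inv x := by simp

theorem h4shift_conj (c : ZMod p → ZMod p) :
    h4shift p * h4shear p c * (h4shift p)⁻¹ = h4shear p (fun j => c (j - 1)) := by
  refine Equiv.ext fun x => ?_
  show (x.1 - 1 + 1, x.2 + c (x.1 - 1)) = (x.1, x.2 + c (x.1 - 1))
  rw [sub_add_cancel]

theorem h4shift_pow (k : ℕ) (x : ZMod p × ZMod p) :
    (h4shift p ^ k) x = (x.1 + (k : ZMod p), x.2) := by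
  induction k with
  | zero => simp
  | succ k ih =>
    rw [pow_succ', Equiv.Perm.mul_apply, ih]
    show (x.1 + (k : ZMod p) + 1, x.2) = (x.1 + ((k + 1 : ℕ) : ZMod p), x.2)
    rw [Nat.cast_succ, add_assoc]

/-- a non-abelian `p`-subgroup of `Perm (ZMod p × ZMod p)` (the wreath product `C_p ≀ C_p`) -/
theorem h4_nonabelian :
    ∃ Q₀ : Subgroup (Equiv.Perm (ZMod p × ZMod p)), IsPGroup p Q₀ ∧
      ∃ a ∈ Q₀, ∃ b ∈ Q₀, a * b ≠ b * a := by
  have hB : IsPGroup p (h4shearHom p).range := by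
    rintro ⟨_, c, rfl⟩
    refine ⟨1, ?_⟩
    apply Subtype.ext
    show (h4shearHom p c) ^ (p ^ 1) = 1
    rw [pow_one, ← map_pow]
    have h1 : c ^ p = 1 := by
      apply Multiplicative.toAdd.injective
      rw [toAdd_pow, toAdd_one]
      funext i
      simp
    rw [h1, map_one]
  have hs : (h4shift p) ^ (p ^ 1) = 1 := by
    refine Equiv.ext fun x => ?_
    rw [pow_one, h4shift_pow]
    simp
  have hZ : IsPGroup p (Subgroup.zpowers (h4shift p)) := h4_isPGroup_zpowers p _ 1 hs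
  have hnorm : Subgroup.zpowers (h4shift p) ≤
      Subgroup.normalizer ((h4shearHom p).range : Set (Equiv.Perm (ZMod p × ZMod p))) := by
    rw [Subgroup.zpowers_le]
    apply Cfsg.Agent.S1900.mem_normalizer_of_conj_mem
    rintro _ ⟨c, rfl⟩
    exact ⟨Multiplicative.ofAdd (fun j => Multiplicative.toAdd c (j - 1)),
      (h4shift_conj p _).symm⟩
  refine ⟨Subgroup.zpowers (h4shift p) ⊔ (h4shearHom p).range,
    hZ.to_sup_of_normal_right' hB hnorm, h4shear p (Pi.single 0 1), ?_, h4shift p, ?_, ?_⟩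
  · exact (le_sup_right : (h4shearHom p).range ≤ _) ⟨Multiplicative.ofAdd (Pi.single 0 1), rfl⟩
  · exact (le_sup_left : Subgroup.zpowers (h4shift p) ≤ _) (Subgroup.mem_zpowers _)
  · intro h
    have h1 := congrArg (fun σ : Equiv.Perm (ZMod p × ZMod p) => (σ (0, 0)).2) h
    have e1 : ((h4shear p (Pi.single 0 1) * h4shift p) (0, 0)).2 = 0 := by
      show (0 : ZMod p) + (Pi.single (0 : ZMod p) (1 : ZMod p) : ZMod p → ZMod p)
        ((0 : ZMod p) + 1) = 0
      rw [zero_add, zero_add, Pi.single_eq_of_ne one_ne_zero]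
    have e2 : ((h4shift p * h4shear p (Pi.single 0 1)) (0, 0)).2 = 1 := by
      show (0 : ZMod p) + (Pi.single (0 : ZMod p) (1 : ZMod p) : ZMod p → ZMod p)
        (0 : ZMod p) = 1
      rw [zero_add, Pi.single_eq_same]
    have h2 : (0 : ZMod p) = 1 := e1.symm.trans (h1.trans e2)
    exact zero_ne_one h2

end wreath

end Cfsg.Agent.Lib.Helper4
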